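import Groth.Agent.EtCore.K301.JoinDefs
import Groth.Agent.Etbase.EtSigma
import Mathlib.AlgebraicGeometry.Noetherian

/-!
# Node A of `S19999`: from pairs of points to powers

`pow_of_al2`: if étale coverings of products of two pointed étale objects are refined by products of étale
neighbourhoods (`K301.JoinDefs.AL2`), then étale coverings of `U^n`, `n ≥ 1`, are refined by `(U')^n` for a
surjective étale `U' → U`.
-/

set_option autoImplicit false
set_option backward.isDefEq.respectTransparency false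
set_option backward.isDefEq.respectTransparency.types false
universe v u w w'

open CategoryTheory CategoryTheory.Limits AlgebraicGeometry Opposite
open Groth.Agent.Etbase Groth.Agent.Etbase.EtSigma

namespace K798.JoinPow

variable {X : Scheme.{u}}

lemma comp_left_apply {A B C : X.Etale} (f : A ⟶ B) (g : B ⟶ C) (a : A.left) :
    (f ≫ g).left a = g.left (f.left a) := rfl

lemma left_congr {A B : X.Etale} {f g : A ⟶ B} (h : f = g) (a : A.left) : f.left a = g.left a := by rw [h]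

/-- points of fibre products in the small étale site -/
theorem exists_pullback_point {U V W : X.Etale} (g : V ⟶ U) (k : W ⟶ U) (v : V.left) (w : W.left)
    (h : g.left v = k.left w) :
    ∃ p : (pullback g k).left, (pullback.fst g k).left p = v ∧ (pullback.snd g k).left p = w := by
  have hp := RepSheaf.isPullback_left (IsPullback.of_hasPullback g k)
  obtain ⟨z, hz1, hz2⟩ := Scheme.Pullback.exists_preimage_pullback (f := g.left) (g := k.left) v w h
  refine ⟨hp.isoPullback.inv z, ?_, ?_⟩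
  · rw [← Scheme.Hom.comp_apply, IsPullback.isoPullback_inv_fst, hz1]
  · rw [← Scheme.Hom.comp_apply, IsPullback.isoPullback_inv_snd, hz2]

/-- gluing of factorizations over a map to a coproduct -/
theorem glue_sig {ι : Type w'} [Small.{u} ι] (V : ι → X.Etale) {T W Z : X.Etale} (t : T ⟶ sig V)
    (w : W ⟶ Z) (z : T ⟶ Z)
    (H : ∀ (i : ι) (T' : X.Etale) (f : T' ⟶ T) (t' : T' ⟶ V i), t' ≫ sin V i = f ≫ t →
      ∃ k : T' ⟶ W, k ≫ w = f ≫ z) : ∃ k : T ⟶ W, k ≫ w = z := by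
  choose k hk using fun i => H i (pullback t (sin V i)) (pullback.fst _ _) (pullback.snd _ _)
    pullback.condition.symm
  have hcov : ∀ τ : T.left, ∃ (i : ι) (t' : (pullback t (sin V i)).left),
      (pullback.fst t (sin V i)).left t' = τ := by
    intro τ
    obtain ⟨i, y, hy⟩ := cover V (t.left τ)
    obtain ⟨p, hp, -⟩ := exists_pullback_point t (sin V i) τ y hy.symm
    exact ⟨i, p, hp⟩
  obtain ⟨K, hK, -⟩ := RepSheaf.existsUnique_hom (T := T) (V := W)
    (fun i => pullback.fst t (sin V i)) hcov k (by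
      intro i j Z' gi gj hg
      by_cases hZ : IsEmpty Z'.left
      · exact RepSheaf.hom_ext_of_cover fun t => (hZ.false t).elim
      · rw [not_isEmpty_iff] at hZ
        obtain ⟨z'⟩ := hZ
        have h1 : (gi ≫ pullback.snd t (sin V i)) ≫ sin V i = (gj ≫ pullback.snd t (sin V j)) ≫ sin V j := by
          rw [Category.assoc, Category.assoc, ← pullback.condition, ← pullback.condition,
            ← Category.assoc, ← Category.assoc, hg]
        obtain rfl := eq_of_eq V (left_congr h1 z')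
        have h2 : gi = gj := by
          rw [cancel_mono (pullback.fst t (sin V i))] at hg
          exact hg
        rw [h2])
  refine ⟨K, RepSheaf.hom_ext_of_cover fun τ => ?_⟩
  obtain ⟨i, t', ht'⟩ := hcov τ
  refine ⟨_, pullback.fst t (sin V i), t', ht', ?_⟩
  rw [← Category.assoc, hK, hk]

/-- common refinements of finitely many maps covering a set of points -/
theorem refine_finset {Y : X.Etale} (S : Set Y.left) {ι : Type w'} (s : Finset ι) (V : ι → X.Etale)
    (g : ∀ i, V i ⟶ Y) (hS : ∀ i ∈ s, S ⊆ Set.range (g i).left) :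
    ∃ (V' : X.Etale) (g' : V' ⟶ Y), S ⊆ Set.range g'.left ∧ ∀ i ∈ s, ∃ r : V' ⟶ V i, r ≫ g i = g' := by
  classical
  induction s using Finset.induction_on with
  | empty => exact ⟨Y, 𝟙 Y, fun y _ => ⟨y, rfl⟩, by simp⟩
  | insert a s ha ih =>
    obtain ⟨V₁, g₁, h₁, h₂⟩ := ih fun i hi => hS i (Finset.mem_insert_of_mem hi)
    refine ⟨pullback g₁ (g a), pullback.fst g₁ (g a) ≫ g₁, ?_, ?_⟩
    · intro y hy
      obtain ⟨v₁, hv₁⟩ := h₁ hy
      obtain ⟨v₂, hv₂⟩ := hS a (Finset.mem_insert_self a s) hy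
      obtain ⟨p, hp, -⟩ := exists_pullback_point g₁ (g a) v₁ v₂ (by rw [hv₁, hv₂])
      exact ⟨p, by rw [comp_left_apply, hp, hv₁]⟩
    · intro i hi
      rw [Finset.mem_insert] at hi
      rcases hi with rfl | hi
      · exact ⟨pullback.snd g₁ (g i), pullback.condition.symm⟩
      · obtain ⟨r, hr⟩ := h₂ i hi
        exact ⟨pullback.fst g₁ (g a) ≫ r, by rw [Category.assoc, hr]⟩

/-- finite subcovers by étale maps -/
theorem exists_finset {Y : X.Etale} [CompactSpace Y.left] (V : Y.left → X.Etale) (g : ∀ y, V y ⟶ Y)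
    (hg : ∀ y, ∃ v : (V y).left, (g y).left v = y) :
    ∃ s : Finset Y.left, ∀ y : Y.left, ∃ i ∈ s, ∃ v : (V i).left, (g i).left v = y := by
  obtain ⟨s, hs⟩ := isCompact_univ.elim_finite_subcover (fun y : Y.left => Set.range (g y).left)
    (fun y => (IsOpenMap.isOpen_range (by
      have := EtSite.etale_left (g y)
      exact (g y).left.isOpenMap)))
    (fun y _ => Set.mem_iUnion.2 ⟨y, hg y⟩)
  refine ⟨s, fun y => ?_⟩
  obtain ⟨i, hi, v, hv⟩ := Set.mem_iUnion₂.1 (hs (Set.mem_univ y))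
  exact ⟨i, hi, v, hv⟩

/-- `T`-point form of the factorization -/
def Fac {Y₁ Y₂ W V₁ V₂ : X.Etale} (w : W ⟶ Y₁ ⨯ Y₂) (g₁ : V₁ ⟶ Y₁) (g₂ : V₂ ⟶ Y₂) : Prop :=
  ∀ (T : X.Etale) (t₁ : T ⟶ V₁) (t₂ : T ⟶ V₂), ∃ k : T ⟶ W, k ≫ w = prod.lift (t₁ ≫ g₁) (t₂ ≫ g₂)

lemma Fac.comp {Y₁ Y₂ W V₁ V₂ V₁' V₂' : X.Etale} {w : W ⟶ Y₁ ⨯ Y₂} {g₁ : V₁ ⟶ Y₁} {g₂ : V₂ ⟶ Y₂}
    (h : Fac w g₁ g₂) (r₁ : V₁' ⟶ V₁) (r₂ : V₂' ⟶ V₂) : Fac w (r₁ ≫ g₁) (r₂ ≫ g₂) := fun T t₁ t₂ => by
  obtain ⟨k, hk⟩ := h T (t₁ ≫ r₁) (t₂ ≫ r₂)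
  exact ⟨k, by rw [hk, Category.assoc, Category.assoc]⟩

lemma Fac.sig_left {Y₁ Y₂ W V₂ : X.Etale} {w : W ⟶ Y₁ ⨯ Y₂} {ι : Type w'} [Small.{u} ι] {V : ι → X.Etale}
    {g : ∀ i, V i ⟶ Y₁} {g₂ : V₂ ⟶ Y₂} (h : ∀ i, Fac w (g i) g₂) : Fac w (sdesc V g) g₂ := fun T t₁ t₂ => by
  refine glue_sig V t₁ w _ fun i T' f t' ht' => ?_
  obtain ⟨k, hk⟩ := h i T' t' (f ≫ t₂)
  refine ⟨k, ?_⟩
  rw [hk]
  ext
  · simp only [Category.assoc, prod.lift_fst]
    rw [← Category.assoc f, ← ht', Category.assoc, sin_sdesc]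
  · simp only [Category.assoc, prod.lift_snd]

lemma Fac.sig_right {Y₁ Y₂ W V₁ : X.Etale} {w : W ⟶ Y₁ ⨯ Y₂} {ι : Type w'} [Small.{u} ι] {V : ι → X.Etale}
    {g : ∀ i, V i ⟶ Y₂} {g₁ : V₁ ⟶ Y₁} (h : ∀ i, Fac w g₁ (g i)) : Fac w g₁ (sdesc V g) := fun T t₁ t₂ => by
  refine glue_sig V t₂ w _ fun i T' f t' ht' => ?_
  obtain ⟨k, hk⟩ := h i T' (f ≫ t₁) t'
  refine ⟨k, ?_⟩
  rw [hk]
  ext
  · simp only [Category.assoc, prod.lift_fst]
  · simp only [Category.assoc, prod.lift_snd]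
    rw [← Category.assoc f, ← ht', Category.assoc, sin_sdesc]

/-- étale coverings of a product of two quasi-compact étale objects are refined by products -/
theorem two (h : K301.JoinDefs.AL2 X) (Y₁ Y₂ : X.Etale) [CompactSpace Y₁.left] [CompactSpace Y₂.left]
    (W : X.Etale) (w : W ⟶ Y₁ ⨯ Y₂) (hw : Function.Surjective w.left.base) :
    ∃ (V₁ V₂ : X.Etale) (g₁ : V₁ ⟶ Y₁) (g₂ : V₂ ⟶ Y₂), Function.Surjective g₁.left.base ∧
      Function.Surjective g₂.left.base ∧ Fac w g₁ g₂ := by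
  have key : ∀ (u₁ : Y₁.left) (u₂ : Y₂.left), ∃ (V₁ V₂ : X.Etale) (g₁ : V₁ ⟶ Y₁) (g₂ : V₂ ⟶ Y₂),
      (∃ v : V₁.left, g₁.left v = u₁) ∧ (∃ v : V₂.left, g₂.left v = u₂) ∧ Fac w g₁ g₂ := by
    intro u₁ u₂
    obtain ⟨V₁, V₂, g₁, g₂, h₁, h₂, k, hk⟩ := h Y₁ Y₂ u₁ u₂ W w hw
    refine ⟨V₁, V₂, g₁, g₂, h₁, h₂, fun T t₁ t₂ => ⟨prod.lift t₁ t₂ ≫ k, ?_⟩⟩
    rw [Category.assoc, hk, prod.lift_map]
  have step : ∀ u₂ : Y₂.left, ∃ (V₁ V₂ : X.Etale) (g₁ : V₁ ⟶ Y₁) (g₂ : V₂ ⟶ Y₂),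
      (∀ y : Y₁.left, ∃ v : V₁.left, g₁.left v = y) ∧ (∃ v : V₂.left, g₂.left v = u₂) ∧ Fac w g₁ g₂ := by
    intro u₂
    choose V₁ V₂ g₁ g₂ h₁ h₂ hf using fun u₁ => key u₁ u₂
    obtain ⟨s, hs⟩ := exists_finset V₁ g₁ h₁
    obtain ⟨V', g', hg', hr⟩ := refine_finset {u₂} s V₂ g₂ (fun i _ => Set.singleton_subset_iff.2 (h₂ i))
    refine ⟨sig (fun i : s => V₁ i), V', sdesc _ (fun i : s => g₁ i), g', ?_, hg' rfl,
      Fac.sig_left fun i => ?_⟩
    · intro y
      obtain ⟨i, hi, v, hv⟩ := hs y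
      refine ⟨(sin (fun i : s => V₁ i) ⟨i, hi⟩).left v, ?_⟩
      rw [← comp_left_apply, sin_sdesc]
      exact hv
    · obtain ⟨r, hr'⟩ := hr i i.2
      have := (hf i).comp (𝟙 _) r
      rwa [Category.id_comp, hr'] at this
  choose V₁ V₂ g₁ g₂ h₁ h₂ hf using step
  obtain ⟨s, hs⟩ := exists_finset V₂ g₂ h₂
  obtain ⟨V', g', hg', hr⟩ := refine_finset Set.univ s V₁ g₁ (fun i _ y _ => h₁ i y)
  refine ⟨V', sig (fun i : s => V₂ i), g', sdesc _ (fun i : s => g₂ i), fun y => hg' (Set.mem_univ y),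
    ?_, Fac.sig_right fun i => ?_⟩
  · intro y
    obtain ⟨i, hi, v, hv⟩ := hs y
    refine ⟨(sin (fun i : s => V₂ i) ⟨i, hi⟩).left v, ?_⟩
    change (sin (fun i : s => V₂ i) ⟨i, hi⟩ ≫ sdesc _ (fun i : s => g₂ i)).left v = y
    rw [sin_sdesc]
    exact hv
  · obtain ⟨r, hr'⟩ := hr i i.2
    have := (hf i).comp r (𝟙 _)
    rwa [Category.id_comp, hr'] at this

/-- surjectivity on points passes to split epimorphisms composed -/
lemma surjective_of_section {A B : X.Etale} (f : A ⟶ B) (s : B ⟶ A) (h : s ≫ f = 𝟙 B) :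
    Function.Surjective f.left.base := fun b => ⟨s.left b, by
  rw [← comp_left_apply, h]
  rfl⟩

lemma surjective_comp {A B C : X.Etale} (f : A ⟶ B) (g : B ⟶ C) (hf : Function.Surjective f.left.base)
    (hg : Function.Surjective g.left.base) : Function.Surjective (f ≫ g).left.base := fun c => by
  obtain ⟨b, rfl⟩ := hg c
  obtain ⟨a, rfl⟩ := hf b
  exact ⟨a, rfl⟩

section pow

variable (U : X.Etale) (n : ℕ)

/-- `U^n` -/
noncomputable abbrev Pw : X.Etale := ∏ᶜ fun _ : Fin n => U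

/-- `U^(n+1) ⟶ U^n × U` -/
noncomputable def out : Pw U (n + 1) ⟶ Pw U n ⨯ U :=
  prod.lift (Pi.lift fun i => Pi.π (fun _ : Fin (n + 1) => U) i.castSucc)
    (Pi.π (fun _ : Fin (n + 1) => U) (Fin.last n))

/-- `U^n × U ⟶ U^(n+1)` -/
noncomputable def inn : Pw U n ⨯ U ⟶ Pw U (n + 1) :=
  Pi.lift (Fin.lastCases (motive := fun _ => (Pw U n ⨯ U ⟶ U)) prod.snd
    (fun i => prod.fst ≫ Pi.π (fun _ : Fin n => U) i))

lemma inn_last : inn U n ≫ Pi.π (fun _ : Fin (n + 1) => U) (Fin.last n) = prod.snd := by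
  rw [inn, Pi.lift_π, Fin.lastCases_last]

lemma inn_castSucc (i : Fin n) : inn U n ≫ Pi.π (fun _ : Fin (n + 1) => U) i.castSucc =
    prod.fst ≫ Pi.π (fun _ : Fin n => U) i := by
  rw [inn, Pi.lift_π, Fin.lastCases_castSucc]

lemma out_fst (i : Fin n) : (out U n ≫ prod.fst) ≫ Pi.π (fun _ : Fin n => U) i =
    Pi.π (fun _ : Fin (n + 1) => U) i.castSucc := by
  rw [out, prod.lift_fst, Pi.lift_π]

lemma out_snd : out U n ≫ prod.snd = Pi.π (fun _ : Fin (n + 1) => U) (Fin.last n) := by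
  rw [out, prod.lift_snd]

lemma inn_out : inn U n ≫ out U n = 𝟙 _ := by
  ext i
  · rw [Category.assoc, Category.assoc, ← Category.assoc (out U n), out_fst, inn_castSucc,
      Category.id_comp]
  · rw [Category.assoc, out_snd, inn_last, Category.id_comp]

lemma out_inn : out U n ≫ inn U n = 𝟙 _ := by
  refine Pi.hom_ext _ _ fun i => ?_
  induction i using Fin.lastCases with
  | last => rw [Category.assoc, inn_last, out_snd, Category.id_comp]
  | cast i => rw [Category.assoc, inn_castSucc, ← Category.assoc, out_fst, Category.id_comp]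

theorem compactSpace_pow [CompactSpace X] [QuasiCompact U.hom] : CompactSpace (Pw U n).left := by
  induction n with
  | zero =>
    let T : X.Etale := Scheme.Etale.mk (𝟙 X)
    have hT : CompactSpace T.left := inferInstanceAs (CompactSpace X)
    let f : T ⟶ Pw U 0 := Pi.lift fun i => i.elim0
    let g : Pw U 0 ⟶ T := MorphismProperty.Over.homMk (Pw U 0).hom (Category.comp_id _) trivial
    have hs := surjective_of_section f g (Pi.hom_ext _ _ fun i => i.elim0)
    refine ⟨?_⟩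
    rw [← hs.range_eq]
    exact isCompact_range f.left.base.hom.continuous
  | succ n ih =>
    let P : X.Etale := EtRep.prod (Pw U n) U
    have : QuasiCompact (EtRep.pr1 (Pw U n) U).left := by
      rw [EtRep.pr1_left]
      infer_instance
    have hP : CompactSpace P.left := by
      have := QuasiCompact.isCompact_preimage (f := (EtRep.pr1 (Pw U n) U).left) Set.univ isOpen_univ isCompact_univ
      rw [Set.preimage_univ] at this
      exact ⟨this⟩
    let f : P ⟶ Pw U (n + 1) := prod.lift (EtRep.pr1 _ _) (EtRep.pr2 _ _) ≫ inn U n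
    let g : Pw U (n + 1) ⟶ P := EtRep.lft (out U n ≫ prod.fst) (out U n ≫ prod.snd)
    have hs := surjective_of_section f g (by
      change EtRep.lft (out U n ≫ prod.fst) (out U n ≫ prod.snd) ≫
        prod.lift (EtRep.pr1 _ _) (EtRep.pr2 _ _) ≫ inn U n = _
      rw [← Category.assoc, prod.comp_lift, EtRep.lft_pr1, EtRep.lft_pr2, ← prod.comp_lift,
        prod.lift_fst_snd, Category.comp_id, out_inn])
    refine ⟨?_⟩
    rw [← hs.range_eq]
    exact isCompact_range f.left.base.hom.continuous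

end pow

theorem pow_fac (h : K301.JoinDefs.AL2 X) [CompactSpace X] (U : X.Etale) [QuasiCompact U.hom] (n : ℕ) :
    ∀ (W : X.Etale) (w : W ⟶ Pw U (n + 1)), Function.Surjective w.left.base →
      ∃ (U' : X.Etale) (g : U' ⟶ U), Function.Surjective g.left.base ∧
        ∀ (T : X.Etale) (t : Fin (n + 1) → (T ⟶ U')), ∃ k : T ⟶ W,
          ∀ i, k ≫ w ≫ Pi.π (fun _ : Fin (n + 1) => U) i = t i ≫ g := by
  induction n with
  | zero =>
    intro W w hw
    refine ⟨W, w ≫ Pi.π (fun _ : Fin 1 => U) 0, surjective_comp _ _ hw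
      (surjective_of_section _ (Pi.lift fun _ => 𝟙 U) (Pi.lift_π _ _)), fun T t => ⟨t 0, fun i => ?_⟩⟩
    rw [Fin.fin_one_eq_zero i]
  | succ n ih =>
    intro W w hw
    have : CompactSpace (Pw U (n + 1)).left := compactSpace_pow U (n + 1)
    have : CompactSpace U.left := by
      have := QuasiCompact.isCompact_preimage (f := U.hom) (Set.univ : Set X) isOpen_univ
        (isCompact_univ (X := X))
      rw [Set.preimage_univ] at this
      exact ⟨this⟩
    obtain ⟨V₁, V₂, g₁, g₂, h₁, h₂, hf⟩ := two h (Pw U (n + 1)) U W (w ≫ out U (n + 1))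
      (surjective_comp _ _ hw (surjective_of_section _ _ (inn_out U (n + 1))))
    obtain ⟨U₁, g, hg, hT⟩ := ih V₁ g₁ h₁
    refine ⟨pullback g g₂, pullback.fst g g₂ ≫ g, ?_, fun T t => ?_⟩
    · intro y
      obtain ⟨a, ha⟩ := hg y
      obtain ⟨b, hb⟩ := h₂ y
      obtain ⟨p, hp, -⟩ := exists_pullback_point g g₂ a b (ha.trans hb.symm)
      refine ⟨p, ?_⟩
      change g.left ((pullback.fst g g₂).left p) = y
      rw [hp]
      exact ha
    · obtain ⟨k₁, hk₁⟩ := hT T (fun i => t i.castSucc ≫ pullback.fst g g₂)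
      obtain ⟨k, hk⟩ := hf T k₁ (t (Fin.last _) ≫ pullback.snd g g₂)
      refine ⟨k, fun i => ?_⟩
      have h3 : k ≫ w = prod.lift (k₁ ≫ g₁) ((t (Fin.last _) ≫ pullback.snd g g₂) ≫ g₂) ≫ inn U (n + 1) := by
        rw [← hk, Category.assoc, Category.assoc, out_inn, Category.comp_id]
      rw [← Category.assoc, h3, Category.assoc]
      induction i using Fin.lastCases with
      | last => rw [inn_last, prod.lift_snd, Category.assoc, ← pullback.condition]
      | cast i => rw [inn_castSucc, ← Category.assoc, prod.lift_fst, Category.assoc, hk₁, Category.assoc]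

/-- Node A of `S19999`. -/
theorem pow_of_al2 (X : Scheme.{u}) [AlgebraicGeometry.IsNoetherian X] (h : K301.JoinDefs.AL2 X)
    (U : X.Etale) [QuasiCompact U.hom] (n : ℕ) (hn : 0 < n)
    (W : X.Etale) (w : W ⟶ ∏ᶜ fun _ : Fin n => U) (hw : Function.Surjective w.left.base) :
    ∃ (U' : X.Etale) (g : U' ⟶ U), Function.Surjective g.left.base ∧
      ∃ h : (∏ᶜ fun _ : Fin n => U') ⟶ W, h ≫ w = Limits.Pi.map (fun _ : Fin n => g) := by
  obtain ⟨m, rfl⟩ : ∃ m, n = m + 1 := ⟨n - 1, by omega⟩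
  obtain ⟨U', g, hg, hT⟩ := pow_fac h U m W w hw
  obtain ⟨k, hk⟩ := hT (∏ᶜ fun _ : Fin (m + 1) => U') (fun i => Pi.π (fun _ : Fin (m + 1) => U') i)
  refine ⟨U', g, hg, k, Pi.hom_ext _ _ fun i => ?_⟩
  rw [Category.assoc, hk, Pi.map_π]

end K798.JoinPow
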